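import Cfsg.Agent.Lib.CoTwoType.ElemTen.RankData
import Cfsg.Agent.Lib.Multiplier.Sp6Mat
import Mathlib.GroupTheory.Sylow

/-
The 2-rank of Sp6(2) is at most six (helper67).

* `sylSub` : a Sylow 2-subgroup
* `sp6_elementary_le` : an elementary abelian subgroup has at most 64 elements
-/

set_option autoImplicit false
set_option maxRecDepth 20000
set_option linter.style.haveILetI false

namespace Cfsg.Agent.CoTwoType.ElemTen

open Cfsg.Agent.Multiplier.Sp6

/-- The list from the predecessors. -/
def buildSyl : List (ℕ × ℕ) → List ℕ → List ℕ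
  | [], seen => seen
  | (p, g) :: r, seen => buildSyl r (seen ++ [mulC (seen.getD p oneC) (sylGens.getD g oneC)])

theorem build_eq : buildSyl sylPar [oneC] = sylList := by decide +kernel

theorem gens_ok : ∀ g ∈ sylGens, ok g = true ∧ mulC g g = oneC := by decide +kernel

theorem syl_closed : ∀ c ∈ sylList, ∀ g ∈ sylGens, mulC c g ∈ sylList := by decide +kernel

theorem syl_nodup : sylList.Nodup ∧ sylList.length = 512 := by decide +kernel

/-- The involutions of the list and one. -/
def sylInv : List ℕ := sylList.filter fun c => mulC c c == oneC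

theorem inv_check : ∀ c ∈ sylInv, c = oneC ∨ c ∈ sylBig ∨
    (sylInv.filter fun y => mulC c y == mulC y c).length < 128 := by decide +kernel

theorem big_len : sylBig.length = 3 := rfl

theorem build_closure (H : Subgroup G0) (hgen : ∀ g ∈ sylGens, el g ∈ H) :
    ∀ (r : List (ℕ × ℕ)) (seen : List ℕ), (∀ c ∈ seen, ok c = true ∧ el c ∈ H) →
      ∀ c ∈ buildSyl r seen, ok c = true ∧ el c ∈ H := by
  intro r
  induction r with
  | nil => exact fun _ h => h
  | cons pg r ih =>
    intro seen h
    refine ih _ fun c hc => ?_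
    rcases List.mem_append.1 hc with hc | hc
    · exact h c hc
    rw [List.mem_singleton.1 hc]
    have h1 : ok (seen.getD pg.1 oneC) = true ∧ el (seen.getD pg.1 oneC) ∈ H := by
      rw [List.getD_eq_getElem?_getD]
      cases hp : seen[pg.1]? with
      | none => exact ⟨ok_oneC, by rw [Option.getD_none, el_oneC]; exact one_mem H⟩
      | some a => exact h a (List.mem_of_getElem? hp)
    have h2 : ok (sylGens.getD pg.2 oneC) = true ∧ el (sylGens.getD pg.2 oneC) ∈ H := by
      rw [List.getD_eq_getElem?_getD]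
      cases hp : sylGens[pg.2]? with
      | none => exact ⟨ok_oneC, by rw [Option.getD_none, el_oneC]; exact one_mem H⟩
      | some a => exact ⟨(gens_ok a (List.mem_of_getElem? hp)).1, hgen a (List.mem_of_getElem? hp)⟩
    exact ⟨ok_mulC h1.1 h2.1, by rw [el_mul h1.1 h2.1]; exact H.mul_mem h1.2 h2.2⟩

/-- The subgroup of the list. -/
noncomputable def sylSub : Subgroup G0 := Subgroup.closure (el '' {g | g ∈ sylGens})

theorem syl_mem {c : ℕ} (hc : c ∈ sylList) : ok c = true ∧ el c ∈ sylSub :=
  build_closure sylSub (fun g hg => Subgroup.subset_closure ⟨g, hg, rfl⟩) sylPar [oneC]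
    (fun a ha => by
      rw [List.mem_singleton.1 ha]
      exact ⟨ok_oneC, by rw [el_oneC]; exact one_mem _⟩) c (build_eq.symm ▸ hc)

theorem one_mem_sylList : oneC ∈ sylList := by decide +kernel

theorem of_mem_sylSub {x : G0} (hx : x ∈ sylSub) : ∃ c ∈ sylList, el c = x := by
  induction hx using Subgroup.closure_induction_right with
  | one => exact ⟨oneC, one_mem_sylList, el_oneC⟩
  | mul_right a ha b hb ih =>
    obtain ⟨c, hc, rfl⟩ := ih
    obtain ⟨g, hg, rfl⟩ := hb
    exact ⟨mulC c g, syl_closed c hc g hg, el_mul (syl_mem hc).1 (gens_ok g hg).1⟩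
  | mul_inv_cancel a ha b hb ih =>
    obtain ⟨c, hc, rfl⟩ := ih
    obtain ⟨g, hg, rfl⟩ := hb
    obtain ⟨h1, h2⟩ := gens_ok g hg
    have hinv : (el g)⁻¹ = el g := inv_eq_of_mul_eq_one_right (by rw [← el_mul h1 h1, h2, el_oneC])
    exact ⟨mulC c g, syl_closed c hc g hg, by rw [hinv, el_mul (syl_mem hc).1 h1]⟩

theorem card_sylSub : Nat.card sylSub = 512 := by
  classical
  have hset : (sylSub : Set G0) = ↑((sylList.map el).toFinset) := by
    ext x
    simp only [SetLike.mem_coe, List.coe_toFinset, Set.mem_ofPred_eq, List.mem_map]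
    exact ⟨of_mem_sylSub, fun ⟨c, hc, e⟩ => e ▸ (syl_mem hc).2⟩
  rw [← SetLike.coe_sort_coe, Nat.card_coe_set_eq, hset, Set.ncard_coe_finset, List.toFinset_card_of_nodup,
    List.length_map, syl_nodup.2]
  exact syl_nodup.1.map_on fun a ha b hb e => (el_injOn (syl_mem ha).1 (syl_mem hb).1).1 e

/-- **An elementary abelian 2-subgroup of Sp6(2) has at most 64 elements.** -/
theorem sp6_elementary_le (R : Subgroup G0) (hc : ∀ a ∈ R, ∀ b ∈ R, a * b = b * a)
    (he : ∀ a ∈ R, a * a = 1) : Nat.card R ≤ 64 := by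
  classical
  haveI := Fact.mk Nat.prime_two
  have hR : IsPGroup 2 R := fun r => ⟨1, by
    rw [pow_one, pow_two]; exact Subtype.ext (he r r.2)⟩
  obtain ⟨k, hk⟩ := hR.exists_card_eq
  by_contra hlt
  have h128 : 128 ≤ Nat.card R := by
    have h7 : 7 ≤ k := by
      by_contra h7
      exact hlt (hk ▸ Nat.pow_le_pow_right (by norm_num) (Nat.le_of_lt_succ (not_le.1 h7)))
    rw [hk]
    exact Nat.pow_le_pow_right (n := 2) (by norm_num) h7
  have hs : IsPGroup 2 sylSub := IsPGroup.of_card (n := 9) (by rw [card_sylSub]; norm_num)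
  obtain ⟨P, hP⟩ := hR.exists_le_sylow
  obtain ⟨Q, hQ⟩ := hs.exists_le_sylow
  have hQe : (Q : Subgroup G0) = sylSub := by
    refine (Subgroup.eq_of_le_of_card_ge hQ ?_).symm
    obtain ⟨j, hj⟩ := Q.2.exists_card_eq
    have hd := Subgroup.card_subgroup_dvd_card (Q : Subgroup G0)
    rw [hj, natCard_sp6] at hd
    rw [hj, card_sylSub]
    by_contra hj9
    have : 10 ≤ j := by
      by_contra h10
      exact hj9 ((Nat.pow_le_pow_right (n := 2) (by norm_num) (Nat.le_of_lt_succ (not_le.1 h10))).trans (by norm_num))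
    have h10 : 2 ^ 10 ∣ 1451520 := (pow_dvd_pow 2 this).trans hd
    norm_num at h10
  obtain ⟨g, hg⟩ := MulAction.exists_smul_eq G0 P Q
  have hmap : ∀ r ∈ R, g * r * g⁻¹ ∈ sylSub := fun r hr => by
    rw [← hQe, ← hg, Sylow.coe_subgroup_smul, Subgroup.mem_pointwise_smul_iff_inv_smul_mem]
    simpa [mul_assoc] using hP hr
  have hchoose : ∀ r : R, ∃ c ∈ sylInv, el c = g * (r : G0) * g⁻¹ := fun r => by
    obtain ⟨c, hc', e⟩ := of_mem_sylSub (hmap r r.2)
    refine ⟨c, List.mem_filter.2 ⟨hc', beq_iff_eq.2 ?_⟩, e⟩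
    have h := (syl_mem hc').1
    refine (el_injOn (ok_mulC h h) ok_oneC).1 ?_
    rw [el_mul h h, e, el_oneC, show g * (r : G0) * g⁻¹ * (g * r * g⁻¹) = g * (r * r) * g⁻¹ by group,
      he r r.2, mul_one, mul_inv_cancel]
  choose code hcode hel using hchoose
  have hinj : Function.Injective code := fun r r' e => Subtype.ext (by
    have := (hel r).symm.trans ((congrArg el e).trans (hel r'))
    simpa using this)
  haveI := Fintype.ofFinite R
  have hbound : ∀ l : List ℕ, (∀ r, code r ∈ l) → Nat.card R ≤ l.length := fun l hl => by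
    rw [Nat.card_eq_fintype_card, ← Finset.card_univ, ← Finset.card_image_of_injective _ hinj]
    exact (Finset.card_le_card fun c hc' => by
      obtain ⟨r, -, rfl⟩ := Finset.mem_image.1 hc'
      exact List.mem_toFinset.2 (hl r)).trans (List.toFinset_card_le l)
  obtain ⟨r₀, hr₀⟩ : ∃ r, code r ∉ oneC :: sylBig := by
    by_contra hno
    push Not at hno
    have := hbound _ hno
    rw [List.length_cons, big_len] at this
    omega
  rw [List.mem_cons, not_or] at hr₀
  have hlen := ((inv_check _ (hcode r₀)).resolve_left hr₀.1).resolve_left hr₀.2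
  have := hbound (sylInv.filter fun y => mulC (code r₀) y == mulC y (code r₀)) fun r => by
    refine List.mem_filter.2 ⟨hcode r, beq_iff_eq.2 ?_⟩
    have h0 := (syl_mem (List.mem_filter.1 (hcode r₀)).1).1
    have h1 := (syl_mem (List.mem_filter.1 (hcode r)).1).1
    refine (el_injOn (ok_mulC h0 h1) (ok_mulC h1 h0)).1 ?_
    rw [el_mul h0 h1, el_mul h1 h0, hel, hel,
      show g * (r₀ : G0) * g⁻¹ * (g * r * g⁻¹) = g * (r₀ * r) * g⁻¹ by group, hc r₀ r₀.2 r r.2]
    group
  omega

end Cfsg.Agent.CoTwoType.ElemTen
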