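import Cfsg.Agent.Lib.CoTwoType.ElemTen.Frames
import Cfsg.Agent.Lib.CoTwoType.CaseR.Sp6Facts

/-
Sp6(2) acting on the spin module through the centraliser (helper67).

* `aB` : the action on codes modulo the centre; `aB_mul`, `aB_wp`, `aB_xor`, `eq_one_of_trivial`
* `fixSub` : the pointwise stabilisers; `card_step`, `card_fix_one` : bounds on their orders
-/

set_option autoImplicit false
set_option maxRecDepth 20000

namespace Cfsg.Agent.CoTwoType.ElemTen

open Cfsg.Agent.Multiplier.Sp6

attribute [local irreducible] T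

/-- A word of an element. -/
noncomputable def lw (g : G0) : List (Fin 7) := (exists_wp g).choose

theorem wp_lw (g : G0) : wp (lw g) = g := (exists_wp g).choose_spec

/-- The action modulo the centre. -/
noncomputable def aB (g : G0) (v : ℕ) : ℕ := actB (lw g) v

theorem actW_mod : ∀ (l : List (Fin 7)) (v : ℕ), v < 512 → actW l v % 256 = actW l (v % 256) % 256
  | [], v, _ => (Nat.mod_mod v 256).symm
  | j :: l, v, hv => by
    have h1 := act_lt l v hv
    have h2 := act_lt l (v % 256) (by omega)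
    show sig j.val (actW l v) % 256 = sig j.val (actW l (v % 256)) % 256
    have e1 := sig_mod j ⟨_, h1⟩
    have e2 := sig_mod j ⟨_, h2⟩
    simp only at e1 e2
    rw [e1, e2, actW_mod l v hv]

theorem qm_mod (a b : ℕ) : qm a b % 256 = (a % 256) ^^^ (b % 256) := by
  have h : ∀ c : Bool, (a ^^^ b ^^^ (bif c then 256 else 0)) % 256 = (a % 256) ^^^ (b % 256) := fun c => by
    rw [show (256 : ℕ) = 2 ^ 8 by norm_num, Nat.xor_mod_two_pow, Nat.xor_mod_two_pow]
    cases c <;> simp
  exact h _

theorem aB_lt (g : G0) (v : ℕ) : aB g v < 256 := Nat.mod_lt _ (by norm_num)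

universe u

variable {G : Type u} [Group G] {z : G} (L : Base z) (hS : L.Split)

include hS

theorem conj_hom (g : G0) {v : ℕ} (hv : v < 512) :
    L.hom hS g * L.x v * (L.hom hS g)⁻¹ = L.x (actW (lw g) v) := by
  conv_lhs => rw [← wp_lw g, L.hom_wp hS]
  exact L.word_conj _ v hv

theorem actW_wp (l : List (Fin 7)) {v : ℕ} (hv : v < 512) : actW (lw (wp l)) v = actW l v := by
  refine L.x_inj _ (act_lt _ _ hv) _ (act_lt _ _ hv) ?_
  rw [← conj_hom L hS (wp l) hv, L.hom_wp hS, L.word_conj l v hv]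

theorem aB_wp (l : List (Fin 7)) {v : ℕ} (hv : v < 512) : aB (wp l) v = actB l v := by
  rw [aB, actB, actW_wp L hS l hv]; rfl

theorem aB_one {v : ℕ} (hv : v < 256) : aB (1 : G0) v = v := by
  rw [← wp_nil, aB_wp L hS [] (by omega : v < 512)]
  exact Nat.mod_eq_of_lt hv

theorem aB_mul (g k : G0) {v : ℕ} (hv : v < 256) : aB (g * k) v = aB g (aB k v) := by
  have hv' : v < 512 := by omega
  have e : actW (lw (g * k)) v = actW (lw g) (actW (lw k) v) := by
    refine L.x_inj _ (act_lt _ _ hv') _ (act_lt _ _ (act_lt _ _ hv')) ?_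
    rw [← conj_hom L hS (g * k) hv', ← conj_hom L hS g (act_lt _ _ hv'), ← conj_hom L hS k hv', map_mul]
    group
  rw [aB, actB, e, actW_mod _ _ (act_lt _ _ hv')]
  rfl

theorem aB_inv {g : G0} {v w : ℕ} (hv : v < 256) (h : aB g v = w) : aB g⁻¹ w = v := by
  rw [← h, ← aB_mul L hS _ _ hv, inv_mul_cancel, aB_one L hS hv]

theorem aB_inj {g : G0} {v w : ℕ} (hv : v < 256) (hw : w < 256) (h : aB g v = aB g w) : v = w := by
  rw [← aB_inv L hS hv rfl, h, aB_inv L hS hw rfl]

theorem aB_xor (g : G0) {a b : ℕ} (ha : a < 256) (hb : b < 256) :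
    aB g (a ^^^ b) = aB g a ^^^ aB g b := by
  have ha' : a < 512 := by omega
  have hb' : b < 512 := by omega
  have e : actW (lw g) (qm a b) = qm (actW (lw g) a) (actW (lw g) b) := by
    refine L.x_inj _ (act_lt _ _ (qm_lt _ ha' _ hb')) _ (qm_lt _ (act_lt _ _ ha') _ (act_lt _ _ hb')) ?_
    rw [← L.x_mul _ (act_lt _ _ ha') _ (act_lt _ _ hb'), ← conj_hom L hS g ha', ← conj_hom L hS g hb',
      ← conj_hom L hS g (qm_lt _ ha' _ hb'), ← L.x_mul a ha' b hb']
    group
  have h1 : actW (lw g) (qm a b) % 256 = qm (actW (lw g) a) (actW (lw g) b) % 256 := congrArg (· % 256) e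
  rw [actW_mod _ _ (qm_lt _ ha' _ hb'), qm_mod a b, qm_mod,
    Nat.mod_eq_of_lt ha, Nat.mod_eq_of_lt hb] at h1
  exact h1

theorem eq_one_of_trivial {g : G0} (h : ∀ v < 256, aB g v = v) : g = 1 := by
  let N : Subgroup G0 :=
    { carrier := {g | ∀ v < 256, aB g v = v}
      one_mem' := fun v hv => aB_one L hS hv
      mul_mem' := fun {g k} hg hk v hv => by rw [aB_mul L hS g k hv, hk v hv, hg v hv]
      inv_mem' := fun {g} hg v hv => aB_inv L hS hv (hg v hv) }
  have hN : N.Normal := ⟨fun g hg k v hv => by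
    rw [aB_mul L hS _ _ hv, aB_mul L hS _ _ (aB_lt _ _), hg _ (aB_lt _ _), ← aB_mul L hS _ _ hv,
      mul_inv_cancel, aB_one L hS hv]⟩
  have hgN : g ∈ N := h
  have := CaseR.simple_sp6
  rcases hN.eq_bot_or_eq_top with e | e
  · rwa [e, Subgroup.mem_bot] at hgN
  · exfalso
    have h1 : wp [0] ∈ N := e ▸ Subgroup.mem_top _
    have h2 := h1 4 (by norm_num)
    rw [aB_wp L hS _ (by norm_num)] at h2
    exact mv_check h2

/-- The pointwise stabiliser. -/
noncomputable def fixSub (pts : List ℕ) : Subgroup G0 where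
  carrier := {g | ∀ p ∈ pts, p < 256 → aB g p = p}
  one_mem' := fun _ _ hp => aB_one L hS hp
  mul_mem' := fun {g k} hg hk p hm hp => by rw [aB_mul L hS g k hp, hk p hm hp, hg p hm hp]
  inv_mem' := fun {g} hg p hm hp => aB_inv L hS hp (hg p hm hp)

theorem mem_fixSub {pts : List ℕ} {g : G0} :
    g ∈ fixSub L hS pts ↔ ∀ p ∈ pts, p < 256 → aB g p = p := Iff.rfl

theorem wp_mem_fixSub {pts : List ℕ} {l : List (Fin 7)} (h : ∀ p ∈ pts, actB l p = p) :
    wp l ∈ fixSub L hS pts := fun p hm hp => by rw [aB_wp L hS l (by omega : p < 512), h p hm]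

theorem card_step {pts : List ℕ} {p : ℕ} {ws : List (List (Fin 7))} (hp : p < 256)
    (h : level pts p ws = true) :
    Nat.card (fixSub L hS (p :: pts)) * ws.length ≤ Nat.card (fixSub L hS pts) := by
  simp only [level, Bool.and_eq_true, List.all_eq_true, beq_iff_eq, decide_eq_true_eq] at h
  obtain ⟨hfix, hnd⟩ := h
  let f : fixSub L hS (p :: pts) × Fin ws.length → fixSub L hS pts := fun k =>
    ⟨wp ws[k.2.val] * (k.1 : G0), mul_mem (wp_mem_fixSub L hS fun q hq => hfix _ (List.getElem_mem _) q hq)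
      fun q hq hq' => k.1.2 q (List.mem_cons_of_mem _ hq) hq'⟩
  have hf : Function.Injective f := by
    rintro ⟨k, i⟩ ⟨k', i'⟩ e
    have e' : wp ws[i.val] * (k : G0) = wp ws[i'.val] * (k' : G0) := congrArg Subtype.val e
    have hi : i = i' := by
      have e2 := congrArg (fun g => aB g p) e'
      simp only [aB_mul L hS _ _ hp, k.2 p List.mem_cons_self hp, k'.2 p List.mem_cons_self hp,
        aB_wp L hS _ (by omega : p < 512)] at e2
      exact Fin.ext ((List.Nodup.getElem_inj_iff hnd (hi := by simp) (hj := by simp)).1 (by simpa using e2))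
    subst hi
    exact Prod.ext (Subtype.ext (mul_left_cancel e')) rfl
  have := Nat.card_le_card_of_injective f hf
  rwa [Nat.card_prod, Nat.card_fin] at this

theorem card_fix_one : Nat.card (fixSub L hS [1]) * 135 ≤ 1451520 := by
  have h : level [] 1 (pointData.map fun q => q.2.reverse) = true := by
    simp only [level, List.all_nil, List.map_map, Function.comp_def, Bool.and_eq_true, List.all_eq_true, decide_eq_true_eq]
    refine ⟨fun _ _ => trivial, ?_⟩
    rw [List.map_congr_left (g := Prod.fst) fun q hq => (point_word q hq).2.2]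
    exact point_nodup.1
  have h1 := card_step L hS (by norm_num) h
  rw [List.length_map, point_nodup.2] at h1
  exact h1.trans ((Subgroup.card_le_card_group _).trans (le_of_eq natCard_sp6))

theorem card_good : Nat.card (fixSub L hS [4, 2, 1]) ≤ 64 ∧
    Nat.card (fixSub L hS [8, 4, 2, 1]) ≤ 32 ∧ Nat.card (fixSub L hS [16, 4, 2, 1]) ≤ 8 ∧
    Nat.card (fixSub L hS [32, 8, 1]) ≤ 8 := by
  obtain ⟨l1, l2, l3, l4, l5, l6, e1, e2, e3, e4, e5, e6⟩ := levels
  have h0 := card_fix_one L hS
  have a1 := card_step L hS (by norm_num) l1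
  have a2 := card_step L hS (by norm_num) l2
  have b1 := card_step L hS (by norm_num) l3
  have b2 := card_step L hS (by norm_num) l4
  have a3 := card_step L hS (by norm_num) l5
  have c3 := card_step L hS (by norm_num) l6
  rw [e1] at a1
  rw [e2] at a2
  rw [e3] at b1
  rw [e4] at b2
  rw [e5] at a3
  rw [e6] at c3
  refine ⟨?_, ?_, ?_, ?_⟩ <;> omega

end Cfsg.Agent.CoTwoType.ElemTen
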