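import Cfsg.Agent.EqLemmas

/-
Words for the frames of the spin module of Sp6(2) (generated numerically; helper67).

* `pointData` : each singular vector with a word sending it to 1
* `spanData` : the singular 3-spans through 1, with a word sending them to one of two spans
* `fixA*`, `fixB*`, `fixC*` : words fixing an initial part of a frame, moving the next vector to distinct places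
* `ncPair` : two noncommuting elements fixing 1, 2, 4
-/

set_option autoImplicit false

namespace Cfsg.Agent.CoTwoType.ElemTen

/-- The singular vectors. -/
def pointData : List (ℕ × List (Fin 7)) :=
  [
  (1, []), (2, [0, 2]),
  (3, [0]), (4, [0, 1, 2, 3, 2, 0]),
  (5, [1]), (6, [0, 1, 3]),
  (7, [0, 1, 3, 2]), (8, [0, 1, 2, 3]),
  (9, [1, 3, 2, 0]), (10, [0, 1, 2]),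
  (11, [1, 3, 2]), (12, [0, 1, 2, 3, 2]),
  (13, [0, 1, 3, 2, 0]), (14, [1, 3]),
  (15, [0, 1]), (16, [5, 6]),
  (17, [5]), (18, [0, 1, 3, 5, 4, 3, 1]),
  (19, [0, 1, 3, 5, 4, 3, 1, 2]), (20, [1, 5, 4]),
  (21, [1, 5, 4, 6]), (22, [0, 1, 5, 4, 3, 2]),
  (23, [0, 1, 5, 4, 3]), (32, [0, 2, 5, 6]),
  (33, [1, 3, 5, 4, 3, 1, 2, 0]), (34, [0, 2, 5]),
  (35, [1, 3, 5, 4, 3, 1, 2]), (40, [0, 1, 2, 5, 4]),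
  (41, [1, 5, 4, 3, 2]), (42, [0, 1, 2, 5, 4, 3]),
  (43, [1, 5, 4, 3, 2, 0]), (48, [0, 5, 6]),
  (49, [1, 3, 5, 4, 3, 1, 6]), (50, [1, 3, 5, 4, 3, 1]),
  (51, [0, 5]), (60, [0, 1, 5, 4]),
  (61, [1, 5, 4, 3]), (62, [1, 5, 4, 3, 6]),
  (63, [0, 1, 5, 4, 6]), (64, [0, 1, 2, 3, 2, 0, 5, 4]),
  (65, [5, 4, 6, 5]), (68, [0, 1, 2, 3, 2, 0, 5]),
  (69, [1, 5, 4, 6, 5]), (72, [5, 4, 3, 1, 2, 0, 3, 2]),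
  (73, [1, 3, 2, 0, 5, 4, 3, 1]), (76, [5, 4, 3, 1, 2, 0, 3]),
  (77, [1, 3, 2, 0, 5, 4, 3]), (80, [1, 5, 6]),
  (81, [5, 4, 6]), (84, [5, 4]),
  (85, [1, 5]), (90, [0, 1, 3, 5, 4, 3]),
  (91, [0, 1, 5, 4, 3, 1]), (94, [0, 1, 5, 4, 3, 1, 2]),
  (95, [0, 1, 3, 5, 4, 3, 2]), (96, [0, 1, 3, 5, 6]),
  (97, [0, 5, 4, 3, 6]), (102, [0, 1, 3, 5]),
  (103, [0, 5, 4, 3]), (104, [1, 3, 5, 4]),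
  (105, [5, 4, 3, 1]), (110, [1, 3, 5, 4, 6]),
  (111, [5, 4, 3, 1, 6]), (112, [0, 1, 3, 2, 5, 6]),
  (113, [0, 5, 4, 3, 2, 6]), (118, [0, 5, 4, 3, 2]),
  (119, [0, 1, 3, 2, 5]), (122, [5, 4, 3, 1, 2, 6]),
  (123, [1, 3, 2, 5, 4, 6]), (124, [1, 3, 2, 5, 4]),
  (125, [5, 4, 3, 1, 2]), (128, [0, 1, 2, 3, 5, 4]),
  (130, [0, 2, 5, 4, 3, 1]), (132, [1, 5, 4, 3, 1, 2, 3]),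
  (134, [0, 1, 3, 5, 4, 6, 5]), (136, [0, 1, 2, 3, 5]),
  (138, [0, 2, 5, 4, 3]), (140, [1, 5, 4, 3, 1, 2, 0, 3]),
  (142, [1, 3, 5, 4, 6, 5]), (144, [1, 3, 2, 0, 5, 6]),
  (146, [5, 4, 3, 2, 0, 6]), (148, [0, 1, 3, 2, 0, 5, 4]),
  (150, [0, 5, 4, 3, 1, 2, 0]), (153, [1, 3, 2, 0, 5]),
  (155, [5, 4, 3, 2, 0]), (157, [0, 1, 3, 2, 0, 5, 4, 3]),
  (159, [5, 4, 3, 1, 6, 5]), (160, [0, 1, 2, 5, 6]),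
  (162, [0, 2, 5, 4, 6]), (165, [1, 3, 5, 4, 3, 2, 0]),
  (167, [1, 5, 4, 3, 1, 2, 0]), (168, [0, 2, 5, 4]),
  (170, [0, 1, 2, 5]), (173, [1, 5, 4, 3, 1, 2]),
  (175, [1, 3, 5, 4, 3, 2]), (176, [1, 3, 2, 5, 6]),
  (178, [5, 4, 3, 2, 6]), (181, [0, 5, 4, 3, 1, 2, 3]),
  (183, [0, 1, 3, 2, 5, 4, 3]), (185, [5, 4, 3, 2]),
  (187, [1, 3, 2, 5]), (188, [0, 1, 3, 2, 5, 4]),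
  (190, [0, 5, 4, 3, 1, 2]), (192, [0, 1, 2, 3, 2, 5, 4]),
  (195, [0, 5, 4, 6, 5]), (196, [5, 4, 3, 1, 2, 3]),
  (199, [1, 3, 2, 5, 4, 3]), (200, [5, 4, 3, 1, 2, 3, 4]),
  (203, [1, 3, 2, 5, 4, 3, 1]), (204, [0, 1, 2, 3, 2, 5]),
  (207, [0, 1, 5, 4, 6, 5]), (208, [0, 1, 3, 2, 0, 5, 6]),
  (211, [5, 4, 3, 6, 5]), (212, [1, 3, 2, 0, 5, 4]),
  (215, [5, 4, 3, 1, 2, 0]), (217, [1, 3, 2, 0, 5, 4, 6]),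
  (218, [5, 4, 3, 1, 2, 0, 6]), (221, [0, 1, 3, 2, 0, 5]),
  (222, [0, 5, 4, 3, 2, 0]), (224, [1, 3, 5, 6]),
  (227, [5, 4, 3, 6]), (229, [0, 5, 4, 3, 1, 6]),
  (230, [0, 1, 3, 5, 4, 6]), (232, [0, 1, 3, 5, 4]),
  (235, [0, 5, 4, 3, 1]), (237, [5, 4, 3]),
  (238, [1, 3, 5]), (240, [0, 1, 5, 6]),
  (243, [0, 5, 4, 6]), (245, [1, 3, 5, 4, 3, 6]),
  (246, [1, 5, 4, 3, 1, 6]), (249, [1, 5, 4, 3, 1]),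
  (250, [1, 3, 5, 4, 3]), (252, [0, 5, 4]),
  (255, [0, 1, 5])]

/-- The singular spans through 1. -/
def spanData : List (ℕ × ℕ × List (Fin 7) × Bool) :=
  [
  (2, 4, [], true), (2, 8, [0, 2], true),
  (2, 12, [0], true), (2, 16, [0, 2, 5, 4, 3, 1, 2, 0, 3, 2, 4, 3, 5, 4, 6, 5], true),
  (2, 20, [1, 3, 2, 0, 5, 4, 3, 1, 2, 0, 3, 2, 4, 3, 1, 5], true), (2, 32, [0, 1, 2, 3, 2, 0, 5, 4, 3, 1, 2, 0, 3, 2, 4, 3, 5, 4], true),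
  (2, 40, [0, 1, 2, 3, 2, 0, 5, 4, 3, 1, 2, 0, 3, 2, 4, 3, 1, 5], true), (2, 48, [0, 1, 2, 5, 4, 3, 1, 2, 0, 3, 2, 4, 3, 5, 4, 6, 5], true),
  (2, 60, [0, 1, 3, 2, 0, 5, 4, 3, 1, 2, 0, 3, 2, 4, 3, 1, 5], true), (4, 8, [0, 1, 2, 3, 2, 0], true),
  (4, 10, [1], true), (4, 16, [0, 1, 2, 3, 5, 4, 3, 2, 6, 5, 4, 3], true),
  (4, 18, [0, 1, 2, 3, 5, 4, 3, 1, 2, 3, 6, 5], true), (4, 64, [0, 1, 2, 3, 2, 0, 5, 4, 3, 2, 6, 5, 4, 3], true),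
  (4, 72, [0, 1, 2, 3, 2, 0, 5, 4, 3, 1, 2, 3, 6, 5], true), (4, 80, [0, 1, 2, 3, 2, 5, 4, 3, 2, 6, 5, 4, 3], true),
  (4, 90, [0, 1, 2, 3, 2, 5, 4, 3, 1, 2, 3, 6, 5], true), (6, 8, [0, 1, 3], true),
  (6, 10, [0, 1, 3, 2], true), (6, 16, [0, 1, 2, 3, 5, 4, 3, 2, 0, 6, 5, 4], true),
  (6, 18, [0, 1, 2, 3, 5, 4, 3, 1, 2, 0, 6, 5], true), (6, 96, [0, 1, 2, 3, 2, 5, 4, 3, 2, 0, 6, 5, 4], true),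
  (6, 104, [0, 1, 2, 3, 2, 5, 4, 3, 1, 2, 0, 6, 5], true), (6, 112, [0, 1, 2, 3, 2, 0, 5, 4, 3, 2, 0, 6, 5, 4], true),
  (6, 122, [0, 1, 2, 3, 2, 0, 5, 4, 3, 1, 2, 0, 6, 5], true), (16, 32, [0, 2, 5, 4, 3, 1, 2, 0, 3, 2, 4, 3, 5, 4], true),
  (16, 34, [0, 2, 5, 4, 3, 1, 2, 0, 3, 2, 4, 3, 5, 4, 6], true), (16, 64, [0, 2, 5, 4, 3, 2, 6, 5, 4, 3], true),
  (16, 68, [0, 1, 2, 5, 4, 3, 2, 6, 5, 4, 3], true), (16, 96, [0, 2, 5, 4, 3, 2, 0, 6, 5, 4], true),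
  (16, 102, [0, 1, 2, 5, 4, 3, 2, 0, 6, 5, 4], true), (18, 32, [0, 1, 3, 5, 4, 3, 1, 2, 0, 3, 2, 4, 3, 5, 4], true),
  (18, 34, [0, 1, 5, 4, 3, 1, 2, 0, 3, 2, 4, 3, 5, 4], true), (18, 72, [0, 1, 3, 5, 4, 3, 1, 2, 3, 6, 5], true),
  (18, 76, [0, 5, 4, 3, 1, 2, 3, 6, 5, 4], true), (18, 104, [0, 1, 3, 5, 4, 3, 1, 2, 0, 6, 5], true),
  (18, 110, [1, 3, 5, 4, 3, 1, 2, 0, 6, 5], true), (20, 40, [0, 2, 5, 4, 3, 1, 2, 0, 3, 2, 4, 3, 1, 5, 6], true),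
  (20, 42, [0, 2, 5, 4, 3, 1, 2, 0, 3, 2, 4, 3, 1, 5], true), (20, 64, [0, 1, 3, 5, 4, 3, 2, 6, 5, 4, 3], true),
  (20, 68, [0, 5, 4, 3, 2, 6, 5, 4, 3, 1], true), (20, 104, [0, 1, 2, 5, 4, 3, 1, 2, 0, 6, 5], true),
  (20, 110, [0, 2, 5, 4, 3, 1, 2, 0, 6, 5], true), (22, 40, [0, 1, 5, 4, 3, 1, 2, 0, 3, 2, 4, 3, 1, 5], true),
  (22, 42, [0, 1, 3, 5, 4, 3, 1, 2, 0, 3, 2, 4, 3, 1, 5], true), (22, 72, [0, 2, 5, 4, 3, 1, 2, 3, 6, 5], true),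
  (22, 76, [0, 1, 2, 5, 4, 3, 1, 2, 3, 6, 5], true), (22, 96, [1, 3, 5, 4, 3, 2, 0, 6, 5, 4], true),
  (22, 102, [0, 1, 3, 5, 4, 3, 2, 0, 6, 5, 4], true), (8, 32, [], false),
  (8, 34, [6], false), (8, 64, [0, 1, 3, 1, 2, 0], false),
  (8, 68, [0, 1, 3, 2, 0, 4], false), (8, 96, [3, 1, 2, 3], false),
  (8, 102, [3, 1, 2, 3, 6], false), (10, 32, [0, 3], false),
  (10, 34, [0, 3, 6], false), (10, 80, [0, 2, 3, 1], false),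
  (10, 84, [0, 2, 3, 1, 6], false), (10, 112, [0, 1, 3, 1, 2, 3], false),
  (10, 118, [0, 1, 3, 2, 4, 3], false), (12, 48, [2], false),
  (12, 50, [2, 6], false), (12, 64, [1, 3, 1, 2, 0], false),
  (12, 68, [1, 3, 2, 0, 4], false), (12, 112, [1, 3, 1, 2, 3], false),
  (12, 118, [1, 3, 2, 4, 3], false), (14, 48, [0, 3, 2], false),
  (14, 50, [0, 3, 2, 6], false), (14, 80, [0, 2, 3, 1, 2], false),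
  (14, 84, [0, 2, 3, 1, 2, 6], false), (14, 96, [0, 3, 1, 2, 3], false),
  (14, 102, [0, 3, 1, 2, 3, 6], false), (32, 64, [0, 2, 0, 5, 6, 5], false),
  (32, 72, [2, 4, 3, 5, 4, 3, 1, 2, 6], false), (32, 80, [0, 2, 3, 5, 6, 5], false),
  (32, 90, [0, 2, 4, 3, 5, 4, 3, 1], false), (34, 68, [0, 2, 0, 6, 5], false),
  (34, 76, [2, 4, 3, 5, 4, 3, 1, 2], false), (34, 84, [0, 2, 3, 6, 5], false),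
  (34, 94, [0, 2, 4, 3, 5, 4, 3, 1, 6], false), (40, 64, [0, 2, 0, 4, 5, 4], false),
  (40, 72, [2, 4, 5, 4, 3, 2], false), (40, 84, [0, 2, 3, 1, 6, 5, 4], false),
  (40, 94, [0, 2, 4, 5, 4, 3, 6], false), (42, 68, [0, 2, 0, 4, 5, 4, 6], false),
  (42, 76, [2, 4, 5, 4, 3, 2, 6], false), (42, 80, [4, 5, 4, 3, 2, 0], false),
  (42, 90, [0, 2, 4, 5, 4, 3], false), (48, 64, [2, 0, 5, 6, 5], false),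
  (48, 76, [2, 4, 3, 5, 4, 3, 1, 6], false), (48, 80, [0, 2, 3, 2, 5, 6, 5], false),
  (48, 94, [0, 2, 4, 3, 5, 4, 3, 1, 2], false), (50, 68, [2, 0, 6, 5], false),
  (50, 72, [2, 4, 3, 5, 4, 3, 1], false), (50, 84, [0, 2, 3, 2, 6, 5], false),
  (50, 90, [0, 2, 4, 3, 5, 4, 3, 1, 2, 6], false), (60, 64, [2, 0, 4, 5, 4], false),
  (60, 76, [2, 4, 5, 4, 3], false), (60, 84, [0, 2, 3, 1, 2, 6, 5, 4], false),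
  (60, 90, [0, 2, 4, 5, 4, 3, 2, 6], false), (62, 68, [2, 0, 4, 5, 4, 6], false),
  (62, 72, [2, 4, 5, 4, 3, 6], false), (62, 80, [0, 4, 5, 4, 3, 2, 0], false),
  (62, 94, [0, 2, 4, 5, 4, 3, 2], false)]

/-- Words fixing 1, moving 2. -/
def fixA1 : List (List (Fin 7)) :=
  [
  [], [2],
  [5, 6, 0, 2, 1, 3, 4, 5, 3, 2, 1, 0], [4, 5, 6, 0, 2, 3, 4, 5, 3, 2, 1, 0],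
  [3, 4, 5, 6, 2, 3, 4, 5, 3, 2, 1, 0], [5, 6, 0, 2, 1, 3, 4, 5, 3, 0, 2, 1, 0],
  [4, 5, 6, 0, 2, 3, 4, 5, 3, 0, 2, 1, 0], [3, 4, 5, 6, 2, 3, 4, 5, 3, 0, 2, 1, 0],
  [1, 3, 4, 5, 6, 2, 3, 4, 5, 2, 3, 2, 1, 0], [1, 3, 4, 5, 6, 2, 3, 4, 5, 2, 3, 0, 2, 1, 0],
  [5, 4, 3, 2, 1, 3, 4, 5, 6, 3, 0, 2, 1, 3, 4, 5], [5, 4, 3, 0, 2, 1, 3, 4, 5, 6, 0, 2, 1, 3, 4, 5],
  [5, 4, 3, 2, 1, 3, 4, 5, 6, 3, 0, 2, 1, 3, 4, 5, 2], [5, 4, 3, 0, 2, 1, 3, 4, 5, 6, 0, 2, 1, 3, 4, 5, 2]]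

/-- Words fixing 1, 2, moving 4. -/
def fixA2 : List (List (Fin 7)) :=
  [
  [], [3, 0],
  [2, 3, 0, 2], [0, 2, 3, 0, 2, 0],
  [5, 1, 3, 4, 2, 3, 0, 2, 1, 3, 4, 5, 0, 2, 3, 1], [4, 5, 3, 4, 2, 3, 0, 2, 1, 3, 4, 5, 0, 2, 3, 1],
  [6, 5, 1, 3, 4, 2, 3, 0, 2, 1, 3, 4, 5, 0, 2, 3, 1], [6, 4, 5, 3, 4, 2, 3, 0, 2, 1, 3, 4, 5, 0, 2, 3, 1],
  [5, 1, 3, 4, 2, 3, 0, 2, 1, 3, 4, 5, 0, 2, 1, 3, 1, 0], [4, 5, 3, 4, 2, 3, 0, 2, 1, 3, 4, 5, 0, 2, 1, 3, 1, 0],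
  [6, 5, 1, 3, 4, 2, 3, 0, 2, 1, 3, 4, 5, 0, 2, 1, 3, 1, 0], [6, 4, 5, 3, 4, 2, 3, 0, 2, 1, 3, 4, 5, 0, 2, 1, 3, 1, 0]]

/-- Words fixing 1, moving 8. -/
def fixB1 : List (List (Fin 7)) :=
  [
  [], [2],
  [3, 0], [2, 3, 0],
  [3, 0, 2], [2, 3, 0, 2],
  [0, 2, 3, 2, 0], [0, 2, 3, 0, 2, 0],
  [5, 6, 0, 2, 1, 3, 4, 5, 3, 2, 1, 0], [5, 6, 3, 2, 1, 3, 4, 5, 3, 2, 1, 0],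
  [4, 5, 6, 0, 2, 3, 4, 5, 3, 2, 1, 0], [3, 4, 5, 6, 2, 3, 4, 5, 3, 2, 1, 0],
  [5, 6, 0, 2, 1, 3, 4, 5, 3, 2, 1, 3], [5, 6, 3, 2, 1, 3, 4, 5, 3, 2, 1, 3],
  [4, 5, 6, 0, 2, 3, 4, 5, 3, 2, 1, 3], [3, 4, 5, 6, 2, 3, 4, 5, 3, 2, 1, 3],
  [5, 6, 0, 2, 1, 3, 4, 5, 3, 0, 2, 1, 0], [5, 6, 3, 2, 1, 3, 4, 5, 3, 0, 2, 1, 0],
  [4, 5, 6, 0, 2, 3, 4, 5, 3, 0, 2, 1, 0], [3, 4, 5, 6, 2, 3, 4, 5, 3, 0, 2, 1, 0],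
  [5, 6, 0, 2, 1, 3, 4, 5, 1, 3, 2, 1, 0], [5, 6, 3, 2, 1, 3, 4, 5, 1, 3, 2, 1, 0],
  [4, 5, 6, 0, 2, 3, 4, 5, 1, 3, 2, 1, 0], [3, 4, 5, 6, 2, 3, 4, 5, 1, 3, 2, 1, 0],
  [5, 6, 0, 2, 1, 3, 4, 5, 3, 2, 1, 3, 2], [5, 6, 3, 2, 1, 3, 4, 5, 3, 2, 1, 3, 2],
  [4, 5, 6, 0, 2, 3, 4, 5, 3, 2, 1, 3, 2], [3, 4, 5, 6, 2, 3, 4, 5, 3, 2, 1, 3, 2],
  [5, 6, 0, 2, 1, 3, 4, 5, 3, 0, 2, 1, 3], [5, 6, 3, 2, 1, 3, 4, 5, 3, 0, 2, 1, 3],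
  [4, 5, 6, 0, 2, 3, 4, 5, 3, 0, 2, 1, 3], [3, 4, 5, 6, 2, 3, 4, 5, 3, 0, 2, 1, 3],
  [5, 6, 0, 2, 1, 3, 4, 5, 1, 3, 0, 2, 1, 0], [5, 6, 3, 2, 1, 3, 4, 5, 1, 3, 0, 2, 1, 0],
  [4, 5, 6, 0, 2, 3, 4, 5, 1, 3, 0, 2, 1, 0], [3, 4, 5, 6, 2, 3, 4, 5, 1, 3, 0, 2, 1, 0],
  [4, 5, 6, 3, 2, 1, 3, 4, 5, 2, 3, 2, 1, 0], [1, 3, 4, 5, 6, 2, 3, 4, 5, 2, 3, 2, 1, 0],
  [5, 6, 0, 2, 1, 3, 4, 5, 3, 0, 2, 1, 3, 2], [4, 5, 6, 0, 2, 3, 4, 5, 3, 0, 2, 1, 3, 2],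
  [5, 6, 4, 5, 3, 4, 2, 3, 0, 2, 1, 3, 4, 5, 2, 0], [5, 1, 3, 4, 2, 3, 0, 2, 1, 3, 4, 5, 0, 2, 3, 1],
  [4, 5, 3, 4, 2, 3, 0, 2, 1, 3, 4, 5, 0, 2, 3, 1], [5, 6, 4, 5, 3, 4, 2, 3, 0, 2, 1, 3, 4, 5, 2, 3],
  [5, 6, 4, 5, 3, 4, 2, 3, 0, 2, 1, 3, 4, 5, 0, 2, 0], [5, 6, 4, 5, 3, 4, 2, 3, 0, 2, 1, 3, 4, 5, 3, 2, 0],
  [5, 1, 3, 4, 2, 3, 0, 2, 1, 3, 4, 5, 0, 2, 3, 2, 1], [6, 5, 1, 3, 4, 2, 3, 0, 2, 1, 3, 4, 5, 0, 2, 3, 1],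
  [6, 4, 5, 3, 4, 2, 3, 0, 2, 1, 3, 4, 5, 0, 2, 3, 1], [5, 6, 4, 5, 3, 4, 2, 3, 0, 2, 1, 3, 4, 5, 0, 2, 3],
  [5, 6, 4, 5, 3, 4, 2, 3, 0, 2, 1, 3, 4, 5, 3, 0, 2, 0], [4, 5, 6, 4, 5, 1, 3, 4, 2, 3, 0, 2, 1, 3, 4, 5, 2, 0],
  [6, 5, 1, 3, 4, 2, 3, 0, 2, 1, 3, 4, 5, 0, 2, 3, 2, 1], [4, 5, 6, 4, 5, 1, 3, 4, 2, 3, 0, 2, 1, 3, 4, 5, 0, 2, 0],
  [4, 5, 6, 4, 5, 1, 3, 4, 2, 3, 0, 2, 1, 3, 4, 5, 3, 2, 0], [5, 1, 3, 4, 2, 3, 0, 2, 1, 3, 4, 5, 0, 2, 1, 3, 0, 2, 1]]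

/-- Words fixing 1, 8, moving 32. -/
def fixB2 : List (List (Fin 7)) :=
  [
  [], [6],
  [4, 1], [6, 4, 1],
  [2, 3, 4, 1, 3, 2], [6, 2, 3, 4, 1, 3, 2],
  [2, 1, 3, 4, 1, 3, 2, 1], [6, 2, 1, 3, 4, 1, 3, 2, 1],
  [5, 4, 3, 2, 1, 3, 4, 5, 6, 5, 4, 3, 2, 1, 3, 4, 5, 2, 1], [5, 4, 3, 2, 1, 3, 4, 5, 6, 5, 4, 3, 2, 1, 3, 4, 5, 4, 2],
  [6, 5, 4, 3, 2, 1, 3, 4, 5, 6, 5, 4, 3, 2, 1, 3, 4, 5, 2, 1], [6, 5, 4, 3, 2, 1, 3, 4, 5, 6, 5, 4, 3, 2, 1, 3, 4, 5, 4, 2],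
  [5, 4, 3, 2, 1, 3, 4, 5, 6, 5, 4, 3, 2, 1, 3, 4, 5, 3, 4, 1, 3, 2, 1], [5, 4, 3, 2, 1, 3, 4, 5, 6, 5, 4, 3, 2, 1, 3, 4, 5, 1, 3, 4, 1, 3, 2],
  [6, 5, 4, 3, 2, 1, 3, 4, 5, 6, 5, 4, 3, 2, 1, 3, 4, 5, 3, 4, 1, 3, 2, 1], [6, 5, 4, 3, 2, 1, 3, 4, 5, 6, 5, 4, 3, 2, 1, 3, 4, 5, 1, 3, 4, 1, 3, 2],
  [5, 4, 2, 3, 0, 2, 1, 3, 4, 5, 6, 5, 4, 3, 2, 1, 3, 4, 5, 3, 2, 1, 3, 0, 2], [5, 4, 2, 3, 0, 2, 1, 3, 4, 5, 6, 5, 4, 3, 2, 1, 3, 4, 5, 3, 4, 2, 3, 0, 2],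
  [5, 4, 3, 0, 2, 1, 3, 4, 5, 6, 5, 4, 3, 2, 1, 3, 4, 5, 3, 0, 2, 1, 3, 0, 2, 0], [5, 4, 3, 0, 2, 1, 3, 4, 5, 6, 5, 4, 3, 2, 1, 3, 4, 5, 1, 3, 4, 0, 2, 3, 0, 2],
  [5, 4, 2, 3, 0, 2, 1, 3, 4, 5, 6, 5, 4, 3, 2, 1, 3, 4, 5, 2, 3, 4, 2, 3, 0, 2, 1], [5, 4, 2, 3, 0, 2, 1, 3, 4, 5, 6, 5, 4, 3, 2, 1, 3, 4, 5, 3, 2, 1, 3, 4, 0, 2, 1],
  [5, 4, 3, 0, 2, 1, 3, 4, 5, 6, 5, 4, 3, 2, 1, 3, 4, 5, 3, 0, 2, 1, 3, 4, 0, 2, 1, 0], [5, 4, 3, 0, 2, 1, 3, 4, 5, 6, 5, 4, 3, 2, 1, 3, 4, 5, 2, 3, 4, 2, 3, 0, 2, 1, 3, 0]]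

/-- Words fixing 1, 2, 4, moving 8. -/
def fixA3 : List (List (Fin 7)) :=
  [
  [], [5, 1, 3, 4, 2, 3, 0, 2, 1, 3, 4, 5, 6, 5, 4, 3, 2, 1, 3, 4, 5, 2, 3, 0, 2, 1, 3, 0, 2, 1, 0]]

/-- Words fixing 1, 2, 4, moving 16. -/
def fixC3 : List (List (Fin 7)) :=
  [
  [], [6],
  [4, 1], [6, 4, 1],
  [3, 4, 1, 3], [6, 3, 4, 1, 3],
  [1, 3, 4, 1, 3, 1], [6, 1, 3, 4, 1, 3, 1]]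

/-- A noncommuting pair fixing 1, 2, 4. -/
def ncPair : List (Fin 7) × List (Fin 7) :=
  ([1, 3, 2, 0, 5, 4, 3, 1, 2, 3, 4, 5, 6, 5, 4, 3, 2, 1, 3, 4, 5, 2, 3, 0, 2, 1, 3, 0, 2, 1, 0], [1, 4])

end Cfsg.Agent.CoTwoType.ElemTen
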