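import Cfsg.Agent.Lib.CoTwoType.C0
import Cfsg.Agent.Lib.CoTwoType.ElemTen.FrameData

/-
Finite checks on the frames of the spin module (helper67).

* `actB` : a word acting on a vector modulo the centre
* `Good` : singular, or orthogonal as codes; the checks used for the classification of the 2^10 subgroups
-/

set_option autoImplicit false
set_option maxRecDepth 20000

namespace Cfsg.Agent.CoTwoType.ElemTen

/-- A word acting modulo the centre. -/
def actB (l : List (Fin 7)) (v : ℕ) : ℕ := actW l v % 256

/-- The codes commute. -/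
def orth (a b : ℕ) : Bool := bB a b == bB b a

/-- The span of 1 and two vectors. -/
def spanList (a b : ℕ) : List ℕ := [0, 1, a, 1 ^^^ a, b, 1 ^^^ b, a ^^^ b, 1 ^^^ (a ^^^ b)]

/-- Singular vectors orthogonal to 1 other than 0 and 1. -/
def cand : List ℕ := (List.range 256).filter fun v => !bB v v && orth 1 v && (1 < v)

theorem sig_mod : ∀ j : Fin 7, ∀ v : Fin 512, sig j.val v.val % 256 = sig j.val (v.val % 256) % 256 := by
  decide +kernel

theorem point_all : ∀ v < 256, v = 0 ∨ bB v v = true ∨ v ∈ pointData.map Prod.fst := by decide +kernel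

theorem point_word : ∀ p ∈ pointData, p.1 < 256 ∧ actB p.2 p.1 = 1 ∧ actB p.2.reverse 1 = p.1 := by
  decide +kernel

theorem point_nodup : (pointData.map Prod.fst).Nodup ∧ pointData.length = 135 := by decide +kernel

/-- The check at one vector. -/
def spanAt (a : ℕ) (es : List (ℕ × ℕ × List (Fin 7) × Bool)) : Bool :=
  cand.all fun b => !(orth a b) || b == a || b == (1 ^^^ a) ||
    es.any fun e => (spanList a b).contains e.1 && (spanList a b).contains e.2.1

theorem span_all : (cand.all fun a =>
    spanAt a (spanData.filter fun e => (spanList e.1 e.2.1).contains a)) = true := by decide +kernel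

/-- The frame of a span. -/
def repPts (b : Bool) : List ℕ := cond b [4, 2, 1] [32, 8, 1]

theorem span_word : ∀ e ∈ spanData, e.1 < 256 ∧ e.2.1 < 256 ∧
    ∀ p ∈ repPts e.2.2.2, p < 256 ∧ actB e.2.2.1.reverse p ∈ spanList e.1 e.2.1 := by decide +kernel

/-- A level of a chain: the words fix the earlier points and separate the images of the new one. -/
def level (pts : List ℕ) (p : ℕ) (ws : List (List (Fin 7))) : Bool :=
  (ws.all fun w => pts.all fun q => actB w q == q) && decide (ws.map fun w => actB w p).Nodup

theorem levels : level [1] 2 fixA1 = true ∧ level [2, 1] 4 fixA2 = true ∧ level [1] 8 fixB1 = true ∧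
    level [8, 1] 32 fixB2 = true ∧ level [4, 2, 1] 8 fixA3 = true ∧ level [4, 2, 1] 16 fixC3 = true ∧
    fixA1.length = 14 ∧ fixA2.length = 12 ∧ fixB1.length = 56 ∧ fixB2.length = 24 ∧ fixA3.length = 2 ∧
    fixC3.length = 8 := by decide +kernel

theorem nc_check : (∀ p ∈ [4, 2, 1], actB ncPair.1 p = p ∧ actB ncPair.2 p = p) ∧
    actB (ncPair.1 ++ ncPair.2) 32 ≠ actB (ncPair.2 ++ ncPair.1) 32 := by decide +kernel

theorem ext_check : ∀ c < 256, bB c c = false → orth 1 c = true → orth 2 c = true → orth 4 c = true →
    c < 24 := by decide +kernel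

theorem q_check : ∀ q < 512, orth q 1 = true → orth q 2 = true → orth q 4 = true → orth q 8 = true →
    q % 256 < 16 := by decide +kernel

theorem mv_check : actB [0] 4 ≠ 4 := by decide +kernel

end Cfsg.Agent.CoTwoType.ElemTen
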